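import Mathlib

/-!
Squares in the derived subgroup: the Sylow 2-subgroups have elementary abelian derived quotient.
-/

set_option autoImplicit false

namespace Cfsg.Agent.Lib.SylowTwoSq

open scoped commutatorElement

universe u v

variable {G : Type u} [Group G] {H : Subgroup G}

/-- Squares lie in the derived subgroup. -/
def Sq (H : Subgroup G) : Prop := ∀ x ∈ H, x * x ∈ ⁅H, H⁆

theorem sq_mul {a b : G} (ha : a ∈ H) (hb : b ∈ H) (ha2 : a * a ∈ ⁅H, H⁆) (hb2 : b * b ∈ ⁅H, H⁆) :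
    a * b * (a * b) ∈ ⁅H, H⁆ := by
  have hc := Subgroup.commutator_mem_commutator (inv_mem hb)
    (mul_mem (mul_mem (inv_mem hb) (inv_mem ha)) hb)
  have e : a * b * (a * b) = a * a * (b * b) * ⁅b⁻¹, b⁻¹ * a⁻¹ * b⁆ := by
    rw [commutatorElement_def]; group
  rw [e]
  exact mul_mem (mul_mem ha2 hb2) hc

theorem sq_of_gen (S : Set G) (hle : H ≤ Subgroup.closure S) (hS : S ⊆ H)
    (h : ∀ s ∈ S, s * s ∈ ⁅H, H⁆) : Sq H := by
  intro x hx
  refine (?_ : x ∈ H ∧ x * x ∈ ⁅H, H⁆).2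
  refine Subgroup.closure_induction (p := fun x _ => x ∈ H ∧ x * x ∈ ⁅H, H⁆) (fun s hs => ⟨hS hs, h s hs⟩)
    ⟨one_mem _, by simp⟩ (fun a b _ _ ha hb => ⟨mul_mem ha.1 hb.1, sq_mul ha.1 hb.1 ha.2 hb.2⟩)
    (fun a _ ha => ⟨inv_mem ha.1, ?_⟩) (hle hx)
  rw [← mul_inv_rev]
  exact inv_mem ha.2

theorem sq_map {K : Type v} [Group K] (f : G →* K) (h : Sq H) : Sq (H.map f) := by
  rintro _ ⟨x, hx, rfl⟩
  rw [← map_mul, ← Subgroup.map_commutator]
  exact ⟨_, h x hx, rfl⟩

theorem sq_of_map {K : Type v} [Group K] (f : G →* K) (hf : Function.Injective f)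
    (h : Sq (H.map f)) : Sq H := by
  intro x hx
  have h1 := h (f x) ⟨x, hx, rfl⟩
  rw [← map_mul, ← Subgroup.map_commutator] at h1
  obtain ⟨y, hy, e⟩ := h1
  rwa [← hf e]

theorem sq_subgroupOf {Y : Subgroup G} (hle : H ≤ Y) (h : Sq H) : Sq (H.subgroupOf Y) := by
  refine sq_of_map Y.subtype Y.subtype_injective ?_
  rwa [Subgroup.subgroupOf_map_subtype, inf_eq_left.2 hle]

/-- All Sylow 2-subgroups have squares in their derived subgroups. -/
def SqSylow (G : Type u) [Group G] : Prop := ∀ P : Sylow 2 G, Sq (P : Subgroup G)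

theorem sqSylow_of_one [Finite G] (P : Sylow 2 G) (h : Sq (P : Subgroup G)) : SqSylow G := by
  intro Q
  haveI : Fact (Nat.Prime 2) := ⟨Nat.prime_two⟩
  obtain ⟨g, rfl⟩ := MulAction.exists_smul_eq G P Q
  rw [Sylow.coe_subgroup_smul]
  exact sq_map _ h

theorem sqSylow_normal [Finite G] (Y : Subgroup G) {P : Sylow 2 G} (hP : (P : Subgroup G) ≤ Y)
    (h : SqSylow G) : SqSylow Y :=
  sqSylow_of_one (P.subtype hP) (sq_subgroupOf hP (h P))

theorem sqSylow_surj [Finite G] {K : Type v} [Group K] (f : G →* K) (hf : Function.Surjective f)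
    (h : SqSylow G) : SqSylow K := by
  haveI : Finite K := Finite.of_surjective f hf
  haveI : Fact (Nat.Prime 2) := ⟨Nat.prime_two⟩
  obtain ⟨P⟩ := (inferInstance : Nonempty (Sylow 2 G))
  exact sqSylow_of_one (P.mapSurjective hf) (sq_map f (h P))

theorem sqSylow_equiv [Finite G] {K : Type v} [Group K] (e : G ≃* K) (h : SqSylow G) : SqSylow K :=
  sqSylow_surj e.toMonoidHom e.surjective h

theorem sqSylow_coe (h : SqSylow G) (P : Sylow 2 G) :
    ∀ x : (P : Subgroup G), x ^ 2 ∈ commutator (P : Subgroup G) := by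
  intro x
  have h1 := sq_subgroupOf (le_refl (P : Subgroup G)) (h P) x (by simp [Subgroup.mem_subgroupOf])
  rw [Subgroup.subgroupOf_self] at h1
  rw [pow_two, commutator_def]
  exact h1

end Cfsg.Agent.Lib.SylowTwoSq
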