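import Cfsg.Agent.Lib.SylowTwoSq.Basic
import Cfsg.Agent.Lib.ClassicalBN.Roots
import Cfsg.Agent.Lib.ClassicalBN.OrthMinus

/-!
Squares in the derived subgroup for the unipotent matrices of a classical group in characteristic two:
induction along the radicals of the chain of middle blocks.
-/

set_option autoImplicit false

namespace Cfsg.Agent.Lib.SylowTwoSq

open Cfsg.Agent.Lib.ClassicalBN
open scoped commutatorElement Matrix

universe v

variable {F : Type v} [Field F] [Finite F] {N : ℕ}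

local notation "𝕄" => Matrix (Fin N) (Fin N) F

/-- Labels collapsing the middle block `[k, N-1-k]`. -/
def midLab (N k : ℕ) (x : Fin N) : ℕ := if k ≤ x.val ∧ x.val + k < N then 0 else x.val + 1

/-- Upper unitriangular elements of `G` living on the middle block. -/
def blkU (G : Subgroup (GL (Fin N) F)) (k : ℕ) : Set (GL (Fin N) F) :=
  {g | g ∈ G ⊓ uni N F ∧ InL (midLab N k) g}

/-- Elements of a middle block outside the diagonal only in the first row or the last column. -/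
def IsRad (k : ℕ) (g : GL (Fin N) F) : Prop :=
  ∀ a b : Fin N, a ≠ b → (g : 𝕄) a b ≠ 0 → k ≤ a.val ∧ a < b ∧ b.val + k < N ∧ (a.val = k ∨ b.val + k + 1 = N)

/-- The groups closed under clearing the outer row and column of a middle block. -/
def Clear (G : Subgroup (GL (Fin N) F)) : Prop :=
  ∀ k, ∀ u ∈ blkU G k, ∀ u' ∈ uni N F, InL (midLab N (k + 1)) u' →
    (∀ i j, midLab N (k + 1) i = midLab N (k + 1) j → (u' : 𝕄) i j = (u : 𝕄) i j) → u' ∈ G

theorem midLab_coarser {k : ℕ} {x y : Fin N} (h : midLab N (k + 1) x = midLab N (k + 1) y) :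
    midLab N k x = midLab N k y := by
  unfold midLab at *
  split_ifs at h ⊢ <;> omega

theorem inL_coarser {k : ℕ} {g : GL (Fin N) F} (h : InL (midLab N (k + 1)) g) : InL (midLab N k) g :=
  fun i j hij => h i j fun e => hij (midLab_coarser e)

theorem inL_zero {g : GL (Fin N) F} : InL (midLab N 0) g := fun i j h => absurd (by
  unfold midLab; rw [if_pos ⟨Nat.zero_le _, by omega⟩, if_pos ⟨Nat.zero_le _, by omega⟩]) h

theorem eq_one_of_small {k : ℕ} (hk : N < 2 * k + 2) {g : GL (Fin N) F} (hg : g ∈ uni N F)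
    (h : InL (midLab N k) g) : g = 1 := by
  refine Units.ext (Matrix.ext fun a b => ?_)
  rcases le_or_gt b a with hba | hab
  · exact hg a b hba
  · rw [Units.val_one, Matrix.one_apply_ne hab.ne, h a b ?_]
    have := Fin.lt_def.1 hab
    unfold midLab
    split_ifs <;> omega

theorem exists_clear {G : Subgroup (GL (Fin N) F)} (hG : Clear G) {k : ℕ} (hk : 2 * k + 2 ≤ N)
    {u : GL (Fin N) F} (hu : u ∈ blkU G k) :
    ∃ u' ∈ blkU G (k + 1), u * u'⁻¹ ∈ G ⊓ uni N F ∧ IsRad k (u * u'⁻¹) := by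
  obtain ⟨u', hu'U, hu'L, heq⟩ := exists_blk (lab := midLab N (k + 1)) hu.1.2
  have hu'G := hG k u hu u' hu'U hu'L heq
  refine ⟨u', ⟨⟨hu'G, hu'U⟩, hu'L⟩, ⟨G.mul_mem hu.1.1 (G.inv_mem hu'G), (uni N F).mul_mem hu.1.2 ((uni N F).inv_mem hu'U)⟩, ?_⟩
  have hrU : u * u'⁻¹ ∈ uni N F := (uni N F).mul_mem hu.1.2 ((uni N F).inv_mem hu'U)
  have hvL : InL (midLab N (k + 1)) u'⁻¹ := inL_inv hu'L
  have hrL : InL (midLab N k) (u * u'⁻¹) := inL_mul hu.2 (inL_coarser hvL)
  intro a b hab hne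
  have hlt : a < b := by
    rcases lt_or_ge a b with h | h
    · exact h
    · exact absurd ((hrU a b h).trans (Matrix.one_apply_ne hab)) hne
  have hlab : midLab N k a = midLab N k b := by by_contra h; exact hne (hrL a b h)
  have hl := Fin.lt_def.1 hlt
  have h1 : k ≤ a.val ∧ b.val + k < N := by
    unfold midLab at hlab
    split_ifs at hlab <;> omega
  refine ⟨h1.1, hlt, h1.2, ?_⟩
  by_contra hcon
  push Not at hcon
  apply hne
  rw [Units.val_mul, Matrix.mul_apply]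
  have ha1 : midLab N (k + 1) a = 0 := by unfold midLab; rw [if_pos (by omega)]
  have hmulinv : (u' : 𝕄) * ((u'⁻¹ : GL (Fin N) F) : 𝕄) = 1 := u'.mul_inv
  have hrow : ∀ x : Fin N, (u : 𝕄) a x * ((u'⁻¹ : GL (Fin N) F) : 𝕄) x b =
      (u' : 𝕄) a x * ((u'⁻¹ : GL (Fin N) F) : 𝕄) x b := by
    intro x
    by_cases hx : midLab N (k + 1) a = midLab N (k + 1) x
    · rw [heq a x hx]
    · rw [hu'L a x hx, zero_mul]
      by_cases hxb : midLab N (k + 1) x = midLab N (k + 1) b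
      · exfalso
        have hb1 : midLab N (k + 1) b = 0 := by unfold midLab; rw [if_pos (by omega)]
        exact hx (by rw [ha1, hxb, hb1])
      · rw [hvL x b hxb, mul_zero]
  rw [Finset.sum_congr rfl fun x _ => hrow x, ← Matrix.mul_apply, hmulinv, Matrix.one_apply_ne hab]

theorem blk_le_closure {G : Subgroup (GL (Fin N) F)} (hG : Clear G) :
    ∀ (d k : ℕ), N ≤ d + 2 * k + 1 → ∀ u ∈ blkU G k,
      u ∈ Subgroup.closure {r | r ∈ G ⊓ uni N F ∧ ∃ j, 2 * j + 2 ≤ N ∧ IsRad j r} := by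
  intro d
  induction d with
  | zero =>
    intro k hk u hu
    rw [eq_one_of_small (by omega) hu.1.2 hu.2]
    exact one_mem _
  | succ d ih =>
    intro k hk u hu
    by_cases hs : N < 2 * k + 2
    · rw [eq_one_of_small hs hu.1.2 hu.2]
      exact one_mem _
    obtain ⟨u', hu', hr, hrad⟩ := exists_clear hG (by omega) hu
    have := mul_mem (Subgroup.subset_closure (show u * u'⁻¹ ∈ {r | r ∈ G ⊓ uni N F ∧ ∃ j, 2 * j + 2 ≤ N ∧ IsRad j r}
      from ⟨hr, k, by omega, hrad⟩)) (ih (k + 1) (by omega) u' hu')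
    simpa using this

theorem sq_uni {G : Subgroup (GL (Fin N) F)} (hG : Clear G)
    (h : ∀ k, 2 * k + 2 ≤ N → ∀ r ∈ G ⊓ uni N F, IsRad k r → r * r ∈ ⁅G ⊓ uni N F, G ⊓ uni N F⁆) :
    Sq (G ⊓ uni N F) :=
  sq_of_gen _ (fun u hu => blk_le_closure hG N 0 (by omega) u ⟨hu, inL_zero⟩) (fun _ hr => hr.1)
    (fun r ⟨hr, k, hk, hrad⟩ => h k hk r hr hrad)

/-! ### Products inside a radical -/

theorem rad_mul_apply {k : ℕ} {e f : Fin N} (he : e.val = k) (hf : f.val + k + 1 = N) {r s : GL (Fin N) F}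
    (hrU : r ∈ uni N F) (hsU : s ∈ uni N F) (hr : IsRad k r) (hs : IsRad k s) :
    ((r : 𝕄) - 1) * ((s : 𝕄) - 1) = Matrix.single e f (∑ x, ((r : 𝕄) - 1) e x * ((s : 𝕄) - 1) x f) := by
  have key : ∀ g : GL (Fin N) F, g ∈ uni N F → IsRad k g → ∀ a b, ((g : 𝕄) - 1) a b ≠ 0 →
      k ≤ a.val ∧ a.val < b.val ∧ b.val + k < N ∧ (a.val = k ∨ b.val + k + 1 = N) := fun g hgU hg a b h => by
    rw [Matrix.sub_apply] at h
    rcases eq_or_ne a b with rfl | hab
    · rw [uni_diag hgU, Matrix.one_apply_eq, sub_self] at h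
      exact absurd rfl h
    · rw [Matrix.one_apply_ne hab, sub_zero] at h
      obtain ⟨h1, h2, h3, h4⟩ := hg a b hab h
      exact ⟨h1, h2, h3, h4⟩
  ext a b
  rw [Matrix.mul_apply, Matrix.single_apply]
  by_cases h : e = a ∧ f = b
  · rw [if_pos h, ← h.1, ← h.2]
  · rw [if_neg h]
    refine Finset.sum_eq_zero fun x _ => ?_
    by_contra hne
    obtain ⟨h1, h2, h3, h4⟩ := key r hrU hr a x (left_ne_zero_of_mul hne)
    obtain ⟨g1, g2, g3, g4⟩ := key s hsU hs x b (right_ne_zero_of_mul hne)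
    exact h ⟨Fin.ext (by omega), Fin.ext (by omega)⟩

theorem single_mul_sub_one {k : ℕ} {e f : Fin N} (hf : f.val + k + 1 = N) {g : GL (Fin N) F} (hgU : g ∈ uni N F)
    (hg : IsRad k g) (c : F) : Matrix.single e f c * ((g : 𝕄) - 1) = 0 := by
  ext a b
  rw [Matrix.zero_apply, Matrix.mul_apply]
  refine Finset.sum_eq_zero fun x _ => ?_
  rw [Matrix.single_apply]
  split_ifs with h
  · obtain ⟨-, rfl⟩ := h
    rcases eq_or_ne f b with rfl | hfb
    · rw [Matrix.sub_apply, uni_diag hgU, Matrix.one_apply_eq, sub_self, mul_zero]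
    · by_cases h0 : (g : 𝕄) f b = 0
      · rw [Matrix.sub_apply, h0, Matrix.one_apply_ne hfb, sub_zero, mul_zero]
      · obtain ⟨-, h2, h3, -⟩ := hg f b hfb h0
        have := Fin.lt_def.1 h2
        omega
  · exact zero_mul _

section Two

variable (h2 : (2 : F) = 0)
include h2

theorem rad_sq {k : ℕ} {e f : Fin N} (he : e.val = k) (hf : f.val + k + 1 = N) {r : GL (Fin N) F}
    (hrU : r ∈ uni N F) (hr : IsRad k r) : ((r * r : GL (Fin N) F) : 𝕄) =
      1 + Matrix.single e f (∑ x, ((r : 𝕄) - 1) e x * ((r : 𝕄) - 1) x f) := by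
  rw [← rad_mul_apply he hf hrU hrU hr hr, Units.val_mul]
  obtain ⟨X, hX⟩ : ∃ X, X = (r : 𝕄) - 1 := ⟨_, rfl⟩
  have hr' : (r : 𝕄) = 1 + X := by rw [hX]; abel
  rw [← hX, hr']
  have : X + X = 0 := by ext a b; rw [Matrix.add_apply, Matrix.zero_apply]; linear_combination X a b * h2
  calc (1 + X) * (1 + X) = 1 + (X + X) + X * X := by noncomm_ring
    _ = 1 + X * X := by rw [this, add_zero]

/-- The corner element of a commutator. -/
theorem corner_mem {G : Subgroup (GL (Fin N) F)} {k : ℕ} {e f : Fin N} (he : e.val = k) (hf : f.val + k + 1 = N)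
    {r s : GL (Fin N) F} (hr : r ∈ G ⊓ uni N F) (hs : s ∈ G ⊓ uni N F) (hr' : IsRad k r) (hs' : IsRad k s)
    {z : GL (Fin N) F} (hz : (z : 𝕄) = 1 + Matrix.single e f
      (∑ x, ((r : 𝕄) - 1) e x * ((s : 𝕄) - 1) x f + ∑ x, ((s : 𝕄) - 1) e x * ((r : 𝕄) - 1) x f)) :
    z ∈ ⁅G ⊓ uni N F, G ⊓ uni N F⁆ := by
  have h := Subgroup.commutator_mem_commutator hr hs
  suffices e' : z = ⁅r, s⁆ by rwa [e']
  rw [commutatorElement_def, eq_mul_inv_iff_mul_eq, eq_mul_inv_iff_mul_eq]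
  refine Units.ext ?_
  simp only [Units.val_mul]
  rw [hz, Matrix.single_add, ← rad_mul_apply he hf hr.2 hs.2 hr' hs', ← rad_mul_apply he hf hs.2 hr.2 hs' hr']
  have k1 : ((r : 𝕄) - 1) * ((s : 𝕄) - 1) * ((s : 𝕄) - 1) = 0 := by
    rw [rad_mul_apply he hf hr.2 hs.2 hr' hs', single_mul_sub_one hf hs.2 hs']
  have k2 : ((r : 𝕄) - 1) * ((s : 𝕄) - 1) * ((r : 𝕄) - 1) = 0 := by
    rw [rad_mul_apply he hf hr.2 hs.2 hr' hs', single_mul_sub_one hf hr.2 hr']
  have k3 : ((s : 𝕄) - 1) * ((r : 𝕄) - 1) * ((s : 𝕄) - 1) = 0 := by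
    rw [rad_mul_apply he hf hs.2 hr.2 hs' hr', single_mul_sub_one hf hs.2 hs']
  have k4 : ((s : 𝕄) - 1) * ((r : 𝕄) - 1) * ((r : 𝕄) - 1) = 0 := by
    rw [rad_mul_apply he hf hs.2 hr.2 hs' hr', single_mul_sub_one hf hr.2 hr']
  obtain ⟨X, hX⟩ : ∃ X, X = (r : 𝕄) - 1 := ⟨_, rfl⟩
  obtain ⟨Y, hY⟩ : ∃ Y, Y = (s : 𝕄) - 1 := ⟨_, rfl⟩
  have hr1 : (r : 𝕄) = 1 + X := by rw [hX]; abel
  have hs1 : (s : 𝕄) = 1 + Y := by rw [hY]; abel
  rw [← hX, ← hY] at k1 k2 k3 k4 ⊢
  rw [hr1, hs1]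
  have hYX : Y * X + Y * X = 0 := by
    ext a b; rw [Matrix.add_apply, Matrix.zero_apply]; linear_combination (Y * X) a b * h2
  have k5 : X * Y * (Y * X) = 0 := by rw [← mul_assoc, k1, zero_mul]
  have k6 : Y * X * (Y * X) = 0 := by rw [← mul_assoc, k3, zero_mul]
  calc (1 + (X * Y + Y * X)) * (1 + Y) * (1 + X)
      = 1 + X + Y + (Y * X + Y * X) + X * Y + (X * Y * X) + (X * Y * Y) + X * Y * (Y * X) +
          (Y * X * X) + (Y * X * Y) + Y * X * (Y * X) := by noncomm_ring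
    _ = (1 + X) * (1 + Y) := by rw [k1, k2, k3, k4, k5, k6, hYX]; noncomm_ring

end Two

/-! ### Matrices with no form -/

theorem clear_top : Clear (⊤ : Subgroup (GL (Fin N) F)) := fun _ _ _ _ _ _ _ => Subgroup.mem_top _

theorem sq_top (h2 : (2 : F) = 0) : Sq ((⊤ : Subgroup (GL (Fin N) F)) ⊓ uni N F) := by
  classical
  refine sq_uni clear_top fun k hk r hr hrad => ?_
  obtain ⟨e, he⟩ : ∃ e : Fin N, e.val = k := ⟨⟨k, by omega⟩, rfl⟩
  obtain ⟨f, hf⟩ : ∃ f : Fin N, f.val + k + 1 = N := ⟨⟨N - k - 1, by omega⟩, by simp only; omega⟩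
  obtain ⟨d, hd⟩ : ∃ d, d = ∑ x, ((r : 𝕄) - 1) e x * ((r : 𝕄) - 1) x f := ⟨_, rfl⟩
  have hval := rad_sq h2 he hf hr.2 hrad
  rw [← hd] at hval
  by_cases hmid : k + 2 < N - k
  · obtain ⟨j, hj⟩ : ∃ j : Fin N, j.val = k + 1 := ⟨⟨k + 1, by omega⟩, rfl⟩
    have hej : e < j := Fin.lt_def.2 (by omega)
    have hjf : j < f := Fin.lt_def.2 (by omega)
    have hT : ∀ a b : Fin N, a < b → ∀ c : F, (k ≤ a.val ∧ b.val + k < N ∧ (a.val = k ∨ b.val + k + 1 = N)) →
        ∃ t : GL (Fin N) F, t ∈ (⊤ : Subgroup (GL (Fin N) F)) ⊓ uni N F ∧ IsRad k t ∧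
          (t : 𝕄) - 1 = Matrix.single a b c := by
      intro a b hab c hsupp
      refine ⟨Matrix.GeneralLinearGroup.mkOfDetNeZero (Matrix.transvection a b c)
        (by rw [Matrix.det_transvection_of_ne _ _ hab.ne]; exact one_ne_zero), ⟨trivial, fun x y hyx => ?_⟩, fun x y hxy h => ?_, ?_⟩
      · show Matrix.transvection a b c x y = _
        rw [Matrix.transvection, Matrix.add_apply, Matrix.single_apply, if_neg, add_zero]
        rintro ⟨rfl, rfl⟩; exact hab.not_ge hyx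
      · have h' : Matrix.transvection a b c x y ≠ 0 := h
        rw [Matrix.transvection, Matrix.add_apply, Matrix.one_apply_ne hxy, Matrix.single_apply, zero_add] at h'
        split_ifs at h' with hc
        · obtain ⟨rfl, rfl⟩ := hc; exact ⟨hsupp.1, hab, hsupp.2⟩
        · exact absurd rfl h'
      · show Matrix.transvection a b c - 1 = _
        rw [Matrix.transvection, add_sub_cancel_left]
    obtain ⟨s, hs, hs', hsv⟩ := hT e j hej d ⟨by omega, by omega, .inl he⟩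
    obtain ⟨t, ht, ht', htv⟩ := hT j f hjf 1 ⟨by omega, by omega, .inr hf⟩
    refine corner_mem h2 he hf hs ht hs' ht' ?_
    rw [hval, hsv, htv, Finset.sum_eq_single j, Finset.sum_eq_zero (s := Finset.univ)]
    · simp
    · intro x _
      rw [Matrix.single_apply, if_neg (fun h => hej.ne h.1.symm), zero_mul]
    · intro x _ hx
      rw [Matrix.single_apply, if_neg (fun h => hx h.2.symm), zero_mul]
    · simp
  · have hd0 : d = 0 := by
      rw [hd]
      refine Finset.sum_eq_zero fun x _ => ?_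
      by_contra hne
      have hx1 := left_ne_zero_of_mul hne
      have hx2 := right_ne_zero_of_mul hne
      have key : ∀ a b, ((r : 𝕄) - 1) a b ≠ 0 → a < b := fun a b h => by
        by_contra hab
        rw [Matrix.sub_apply, hr.2 a b (not_lt.1 hab), sub_self] at h
        exact h rfl
      have := Fin.lt_def.1 (key _ _ hx1)
      have := Fin.lt_def.1 (key _ _ hx2)
      omega
    have : r * r = 1 := Units.ext (by rw [hval, hd0, Matrix.single_zero, add_zero, Units.val_one])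
    rw [this]; exact one_mem _

end Cfsg.Agent.Lib.SylowTwoSq
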