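import Cfsg.Agent.Lib.SylowTwoSq.Basic
import Cfsg.Agent.Lib.LieSplit.Basic
import Cfsg.Agent.Lib.LieSplit.ChevSplit
import Cfsg.Agent.Lib.KnownA.SuzukiModel

/-!
Squares in the derived subgroup for Chevalley groups, their twisted forms and the Suzuki groups.
-/

set_option autoImplicit false

namespace Cfsg.Agent.Lib.SylowTwoSq

open Cfsg.Lie
open Cfsg.Agent.Lib
open scoped commutatorElement Matrix

theorem exists_coprime_pow {K : Type*} [Field K] [Fintype K] {m : ℕ}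
    (hK : Fintype.card K = 2 ^ (2 * m + 1)) {v : K} (hv : v ≠ 0) : ∃ c : K, c ^ (2 ^ m + 1) = v := by
  have hcop : (2 ^ (2 * m + 1) - 1).Coprime (2 ^ m + 1) := by
    rw [Nat.coprime_iff_gcd_eq_one]
    by_contra hne
    obtain ⟨r, hr, hdvd⟩ := Nat.exists_prime_and_dvd hne
    have h1 := hdvd.trans (Nat.gcd_dvd_left _ _)
    have h2 := hdvd.trans (Nat.gcd_dvd_right _ _)
    have e1 : (2 : ℤ) ^ (2 * m + 1) - 1 = ((2 ^ (2 * m + 1) - 1 : ℕ) : ℤ) := by
      rw [Nat.cast_sub Nat.one_le_two_pow]; push_cast; ring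
    have d1 : (r : ℤ) ∣ (2 : ℤ) ^ (2 * m + 1) - 1 := e1 ▸ Int.natCast_dvd_natCast.2 h1
    have d2 : (r : ℤ) ∣ (2 : ℤ) ^ m + 1 := by exact_mod_cast Int.natCast_dvd_natCast.2 h2
    have d3 : (r : ℤ) ∣ 1 := by
      have e : (1 : ℤ) = ((2 : ℤ) ^ (2 * m + 1) - 1) - 2 * ((2 : ℤ) ^ m - 1) * ((2 : ℤ) ^ m + 1) := by ring
      rw [e]
      exact dvd_sub d1 (d2.mul_left _)
    exact hr.one_lt.ne' (Nat.eq_one_of_dvd_one (Int.natCast_dvd_natCast.1 d3))
  obtain ⟨c, hc⟩ := (powCoprime (n := 2 ^ m + 1) (G := Kˣ)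
    (by rwa [Nat.card_units, Nat.card_eq_fintype_card, hK])).surjective (Units.mk0 v hv)
  refine ⟨(c : K), ?_⟩
  have h := congrArg Units.val hc
  simpa [powCoprime_apply] using h

theorem chev_sq {D : ChevalleyDatum} {T : Chev.Tables} (G : Chev.Good D T) {F : Type*} [Field F]
    (h2 : (2 : F) = 0) : Sq (D.posUnipotent F) := by
  refine sq_of_gen {g | ∃ (r : ℕ) (t : F), r < D.nroots ∧ Chev.npos D ≤ r ∧ g = G.X F r t}
    (G.posUnipotent_le_of fun r hr hp t => Subgroup.subset_closure ⟨r, t, hr, hp, rfl⟩)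
    (by rintro _ ⟨r, t, hr, hp, rfl⟩; exact G.X_mem_posUnipotent hr hp t) ?_
  rintro _ ⟨r, t, hr, hp, rfl⟩
  rw [G.X_add, show t + t = 0 by linear_combination t * h2, G.X_zero]
  exact one_mem _

section Tw

open Chev.Tw

variable {D : ChevalleyDatum} {T : Chev.Tables} {X : TwTab} {K : Type*} [Field K] {Y : Sys D T X K}
variable (Z : Gens Y)

/-- The translates of a fundamental class inside a class of fixed unipotent elements. -/
def transl (L : List ℕ) : Set (GL D.Idx K) :=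
  {x | ∃ j < X.nb, ∃ g, (∀ c ∈ flipSetFx Y (Z.n j), g * c * g⁻¹ ∈ flipSetFx Y (Z.nw L)) ∧
    ∃ c ∈ flipSetFx Y (Z.n j), x = g * c * g⁻¹}

theorem one_mem_flip (g : GL D.Idx K) : (1 : GL D.Idx K) ∈ flipSetFx Y g :=
  ⟨one_mem _, one_mem _, by simp⟩

theorem flip_le_transl {L : List ℕ} (hL : Red D T X L) :
    ∀ u ∈ flipSetFx Y (Z.nw L), u ∈ Subgroup.closure (transl Z L) := by
  induction hL with
  | nil =>
    intro u hu
    have h := hu.2.2
    rw [Z.nw_nil, one_mul, inv_one, mul_one] at h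
    rw [Y.pos_neg_trivial hu.1 h]
    exact one_mem _
  | @snoc L k hL hk hred ih =>
    intro u hu
    obtain ⟨a, c, rfl, ha, hc⟩ := Z.flip_snoc_split hL.isB hk hred hu
    refine mul_mem ?_ (Subgroup.subset_closure ⟨k, hk, 1, fun c' hc' => ?_, c, hc, by group⟩)
    swap
    · have h := (Z.flip_snoc_mk hL.isB hk hred (one_mem_flip _) hc').1
      simpa using h
    have h1 := ih _ ha
    have hmap : (Subgroup.closure (transl Z L)).map (MulAut.conj (Z.n k)⁻¹).toMonoidHom ≤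
        Subgroup.closure (transl Z (L ++ [k])) := by
      rw [MonoidHom.map_closure, Subgroup.closure_le]
      rintro _ ⟨x, ⟨j, hj, g, hg, c', hc', rfl⟩, rfl⟩
      refine Subgroup.subset_closure ⟨j, hj, (Z.n k)⁻¹ * g, fun c'' hc'' => ?_, c', hc', by simp [mul_assoc]⟩
      have h := (Z.flip_snoc_mk hL.isB hk hred (hg c'' hc'') (one_mem_flip _)).1
      simpa [mul_assoc] using h
    have h2 := hmap ⟨_, h1, rfl⟩
    simpa [mul_assoc] using h2

theorem tw_sq (hk : ∀ k < X.nb, ∀ c ∈ flipSetFx Y (Z.n k),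
    c * c ∈ Subgroup.closure {z | ∃ a ∈ flipSetFx Y (Z.n k), ∃ b ∈ flipSetFx Y (Z.n k), z = ⁅a, b⁆}) :
    Sq (D.posUnipotent K ⊓ Z.G1) := by
  have hmem : ∀ {u}, u ∈ flipSetFx Y (Z.nw Z.L0) → u ∈ D.posUnipotent K ⊓ Z.G1 := fun hu =>
    ⟨hu.1, Z.flip_le_G1 Z.hL0 _ hu⟩
  refine sq_of_gen (transl Z Z.L0) (fun u hu => flip_le_transl Z Z.hL0 u (Z.mem_flip_L0 hu.1 (Z.le_Fx hu.2))) ?_ ?_
  · rintro _ ⟨j, hj, g, hg, c, hc, rfl⟩
    exact hmem (hg c hc)
  · rintro _ ⟨j, hj, g, hg, c, hc, rfl⟩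
    rw [show g * c * g⁻¹ * (g * c * g⁻¹) = MulAut.conj g (c * c) by simp [mul_assoc]]
    have hle : (Subgroup.closure {z | ∃ a ∈ flipSetFx Y (Z.n j), ∃ b ∈ flipSetFx Y (Z.n j), z = ⁅a, b⁆}).map
        (MulAut.conj g).toMonoidHom ≤ ⁅D.posUnipotent K ⊓ Z.G1, D.posUnipotent K ⊓ Z.G1⁆ := by
      rw [MonoidHom.map_closure, Subgroup.closure_le]
      rintro _ ⟨z, ⟨a, ha, b, hb, rfl⟩, rfl⟩
      rw [SetLike.mem_coe, MulEquiv.coe_toMonoidHom, map_commutatorElement]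
      exact Subgroup.commutator_mem_commutator (hmem (hg a ha)) (hmem (hg b hb))
    exact hle ⟨_, hk j hj c hc, rfl⟩

theorem ab_sq_one (h2 : (2 : K) = 0) {H : Subgroup (GL D.Idx K)} {k : ℕ} {R : List ℕ}
    (A : Ab Y H k R) {c : GL D.Idx K} (hc : c ∈ flipSetFx Y (Y.G.nl K (X.blk k))) : c * c = 1 := by
  obtain ⟨f, -, rfl⟩ := (A.flip_iff A.act).1 hc
  rw [Good'.P_mul Y.G (p := 0) Nat.cast_zero (Ab.facts A.chk).2.2.2.1 R (fun x hx => hx) f f,
    show (fun r => f r + f r) = fun _ => (0 : K) from funext fun r => by linear_combination f r * h2]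
  exact Good'.P_zero Y.G R

theorem twF4_sq {K : Type*} [Field K] [Fintype K] {m : ℕ} (hm : 1 ≤ m) (A : Chev.Tw.F4.Par K m) :
    ∀ c ∈ flipSetFx (F4.sys A) ((F4.sys A).G.nl K (twF4.blk 1)), c * c ∈ Subgroup.closure
      {z | ∃ a ∈ flipSetFx (F4.sys A) ((F4.sys A).G.nl K (twF4.blk 1)),
        ∃ b ∈ flipSetFx (F4.sys A) ((F4.sys A).G.nl K (twF4.blk 1)), z = ⁅a, b⁆} := by
  intro c hc
  obtain ⟨t, v, rfl⟩ := (F4.flip1 A).1 hc
  have hz : ∀ w : K, F4.W A F4.posC 0 w = F4.E A F4.posC 0 0 w (A.phi w ^ 2) := fun w => by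
    rw [F4.W, map_zero, zero_mul, zero_add]
  have hW0 : F4.W A F4.posC 0 0 = 1 := by
    rw [hz, map_zero, F4.E_eq]; simp [(F4.sys A).G.X_zero]
  have hprod : ∀ a b : K, ⁅F4.W A F4.posC a 0, F4.W A F4.posC b 0⁆ =
      F4.W A F4.posC 0 (A.phi a * b + A.phi b * a) := by
    intro a b
    rw [commutatorElement_def, mul_inv_eq_iff_eq_mul, mul_inv_eq_iff_eq_mul, hz, F4.W, F4.W, map_zero,
      F4.E_mul A F4.posC_chk, F4.E_mul A F4.posC_chk, F4.E_mul A F4.posC_chk]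
    have h2 := A.h2
    congr 1
    · ring
    · ring
    · linear_combination -(A.phi a * b) * h2
    · simp only [map_add, map_mul, F4.sq_add A, mul_pow, F4.phi_sq A]
      linear_combination -(A.phi a ^ 2 * b) * h2
  obtain ⟨d, hd⟩ : ∃ d, F4.W A F4.posC t v * F4.W A F4.posC t v = F4.W A F4.posC 0 d := by
    refine ⟨t * A.phi t, ?_⟩
    rw [hz, F4.W, F4.E_mul A F4.posC_chk, map_mul, mul_pow, F4.phi_sq A]
    have h2 := A.h2
    congr 1
    · linear_combination A.phi t * h2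
    · linear_combination t * h2
    · linear_combination (t * A.phi t + v) * h2
    · linear_combination A.phi v ^ 2 * h2
  rw [hd]
  by_cases hd0 : d = 0
  · rw [hd0, hW0]; exact one_mem _
  obtain ⟨a, ha0, ha⟩ : ∃ a : K, a ≠ 0 ∧ A.phi a + a ≠ 0 := by
    have hlt : 2 ^ m < Fintype.card K := by
      rw [A.hK]; exact Nat.pow_lt_pow_right (by norm_num) (by omega)
    obtain ⟨a, ha0, ha⟩ := exists_pow_ne_one (K := K) (n := 2 ^ m - 1)
      (by have := Nat.one_lt_two_pow (n := m) (by omega); omega)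
      (by have := Nat.one_le_two_pow (n := m); omega)
    refine ⟨a, ha0, fun e => ha (mul_right_cancel₀ ha0 ?_)⟩
    rw [← pow_succ, Nat.sub_add_cancel Nat.one_le_two_pow, one_mul, ← A.hphi]
    linear_combination e - a * A.h2
  obtain ⟨s, hs⟩ := exists_coprime_pow A.hK (div_ne_zero hd0 ha)
  have hsphi : s * A.phi s = d / (A.phi a + a) := by rw [A.hphi, ← pow_succ', hs]
  refine Subgroup.subset_closure ⟨_, (F4.flip1 A).2 ⟨s * a, 0, rfl⟩, _, (F4.flip1 A).2 ⟨s, 0, rfl⟩, ?_⟩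
  rw [hprod, map_mul]
  congr 1
  rw [show A.phi s * A.phi a * s + A.phi s * (s * a) = s * A.phi s * (A.phi a + a) by ring, hsphi,
    div_mul_cancel₀ _ ha]

end Tw

theorem suz_sq {F : Type*} [Field F] [Fintype F] {m : ℕ} (hm : 1 ≤ m) (hF : Fintype.card F = 2 ^ (2 * m + 1)) :
    SqSylow ↥(KnownA.Suz.G F m) := by
  haveI := KnownA.Suz.charP_two hF
  have hθ := KnownA.Suz.th_sq hF
  refine sqSylow_of_one (KnownA.Suz.sylow hθ hF) ?_
  rw [KnownA.Suz.sylow_coe]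
  rintro _ ⟨a, b, rfl⟩
  rw [KnownA.Suz.u_sq]
  by_cases hd0 : KnownA.szTh m a * a = 0
  · rw [hd0, KnownA.Suz.u_zero]; exact one_mem _
  obtain ⟨w, hw0, hw⟩ : ∃ w : F, w ≠ 0 ∧ KnownA.szTh m w + w ≠ 0 := by
    have hlt : 2 ^ (m + 1) < Fintype.card F := by
      rw [hF]; exact Nat.pow_lt_pow_right (by norm_num) (by omega)
    obtain ⟨w, hw0, hw⟩ := Chev.Tw.exists_pow_ne_one (K := F) (n := 2 ^ (m + 1) - 1)
      (by have := Nat.one_lt_two_pow (n := m + 1) (by omega); omega)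
      (by have := Nat.one_le_two_pow (n := m + 1); omega)
    refine ⟨w, hw0, fun e => hw (mul_right_cancel₀ hw0 ?_)⟩
    rw [← pow_succ, Nat.sub_add_cancel Nat.one_le_two_pow, one_mul]
    have e' : KnownA.szTh m w = w := by linear_combination e - w * (CharTwo.two_eq_zero : (2 : F) = 0)
    rwa [KnownA.szTh_apply] at e'
  obtain ⟨c, hc⟩ := (KnownA.Suz.th_mul_self_bij (F := F) hθ).surjective
    (KnownA.szTh m a * a / (KnownA.szTh m w + w))
  have key : KnownA.Suz.u hθ 0 (KnownA.szTh m a * a) =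
      ⁅KnownA.Suz.u hθ (c * w) 0, KnownA.Suz.u hθ c 0⁆ := by
    rw [commutatorElement_def, eq_mul_inv_iff_mul_eq, eq_mul_inv_iff_mul_eq, KnownA.Suz.u_mul, KnownA.Suz.u_mul,
      KnownA.Suz.u_mul]
    congr 1
    · ring
    · have hc' : KnownA.szTh m c * c = KnownA.szTh m a * a / (KnownA.szTh m w + w) := hc
      have hd : KnownA.szTh m a * a = KnownA.szTh m c * c * (KnownA.szTh m w + w) := by
        rw [hc', div_mul_cancel₀ _ hw]
      have hmulw : KnownA.szTh m (c * w) = KnownA.szTh m c * KnownA.szTh m w := map_mul _ _ _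
      rw [hd]
      simp only [zero_add, add_zero, map_zero, hmulw, map_add, mul_zero, zero_mul]
      linear_combination KnownA.szTh m c * (c * w) * (CharTwo.two_eq_zero : (2 : F) = 0)
  rw [key]
  exact Subgroup.commutator_mem_commutator (KnownA.Suz.u_mem hθ _ _) (KnownA.Suz.u_mem hθ _ _)

end Cfsg.Agent.Lib.SylowTwoSq
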