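import Cfsg.Agent.Lib.SylowTwoSq.Forms
import Cfsg.Agent.Lib.SylowTwoSq.Twisted
import Cfsg.Agent.Lib.LieSplit.Main

/-!
The families of Lie type in characteristic two.
-/

set_option autoImplicit false

namespace Cfsg.Agent.Lib.SylowTwoSq

open Cfsg.Agent.Lib
open Cfsg.Agent.Lib.ClassicalBN
open Equiv
open scoped Matrix commutatorElement

universe u v

/-! ### Orthogonal groups -/

section Orth

variable {F : Type v} [Field F] [Finite F] {N ℓ : ℕ}

local notation "𝕄" => Matrix (Fin N) (Fin N) F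

theorem clear_orth (hN : N = 2 * ℓ) {k : ℕ} {u u' : GL (Fin N) F} (hu : u ∈ blkU (orth N F) k)
    (hu'U : u' ∈ uni N F) (hu'L : InL (midLab N (k + 1)) u')
    (heq : ∀ i j, midLab N (k + 1) i = midLab N (k + 1) j → (u' : 𝕄) i j = (u : 𝕄) i j) : u' ∈ orth N F := by
  classical
  have hh := even_hyp (F := F) hN
  refine mem_orth_of_cols hh (clear_mem_grp ⟨⟨orth_le hh hu.1.1, hu.1.2⟩, hu.2⟩ hu'L hu'U heq) fun j => ?_
  by_cases hj : k + 1 ≤ j.val ∧ j.val + (k + 1) < N
  swap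
  · congr 1
    funext i
    rcases eq_or_ne i j with rfl | hne
    · rw [uni_diag hu'U, Pi.single_eq_same]
    · rw [Pi.single_eq_of_ne hne, hu'L i j]
      unfold midLab
      rw [if_neg hj]
      split_ifs with h
      · omega
      · simpa [Fin.val_inj] using hne
  have h1 := (mem_orth.1 hu.1.1) (Pi.single j 1)
  rw [mulVec_single_col] at h1
  rw [← h1, Qf_apply, Qf_apply]
  refine Finset.sum_congr rfl fun x _ => ?_
  split_ifs with hxr
  swap
  · rfl
  by_cases hx : k + 1 ≤ x.val ∧ x.val + (k + 1) < N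
  · have hx' : k + 1 ≤ (Fin.rev x).val ∧ (Fin.rev x).val + (k + 1) < N := by rw [Fin.val_rev]; omega
    rw [heq x j, heq (Fin.rev x) j] <;> unfold midLab
    · rw [if_pos hx', if_pos hj]
    · rw [if_pos hx, if_pos hj]
  rw [hu'L x j (by unfold midLab; rw [if_neg hx, if_pos hj]; omega), zero_mul]
  by_contra hne
  have key : ∀ a : Fin N, a ≠ j → (u : 𝕄) a j ≠ 0 → a.val < j.val ∧ k ≤ a.val := by
    intro a ha h
    have hlt : a < j := by
      rcases lt_or_ge a j with h' | h'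
      · exact h'
      · exact absurd ((hu.1.2 a j h').trans (Matrix.one_apply_ne ha)) h
    have hl : midLab N k a = midLab N k j := by by_contra h'; exact h (hu.2 a j h')
    have := Fin.lt_def.1 hlt
    unfold midLab at hl
    split_ifs at hl <;> omega
  have e1 : x ≠ j := fun e => hx (e ▸ hj)
  have e2 : Fin.rev x ≠ j := fun e => hx (by
    have := congrArg Fin.val e; rw [Fin.val_rev] at this; omega)
  obtain ⟨p1, p2⟩ := key x e1 (left_ne_zero_of_mul (Ne.symm hne))
  obtain ⟨q1, q2⟩ := key (Fin.rev x) e2 (right_ne_zero_of_mul (Ne.symm hne))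
  rw [Fin.val_rev] at q1 q2
  omega

variable (h2 : (2 : F) = 0)
include h2

theorem orthForm_eps (hN : N = 2 * ℓ) (x : Fin N) : (orthForm N F (even_hyp hN)).eps x = 1 :=
  if_neg (no_fix hN x)

theorem sq_orth (hN : N = 2 * ℓ) : Sq (orth N F ⊓ uni N F) :=
  sq_symm_form (M := orthForm N F (even_hyp hN)) h2 (orthForm_eps h2 hN) (fun _ => rfl) (no_fix hN) (orth_le _)
    fun _ _ hu _ hu'U hu'L heq => clear_orth hN hu hu'U hu'L heq

theorem sq_omin (hN : N = 2 * ℓ) (ψ : F →+* F) {c : Fin N} (hc : c.val + 1 = ℓ) :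
    Sq (omin N F ψ c ⊓ uni N F) := by
  refine sq_symm_form (M := orthForm N F (even_hyp hN)) h2 (orthForm_eps h2 hN) (fun _ => rfl) (no_fix hN)
    (omin_le.trans (orth_le _)) fun k u hu u' hu'U hu'L heq => ?_
  by_cases hs : N < 2 * (k + 1) + 2
  · rw [eq_one_of_small hs hu'U hu'L]; exact one_mem _
  refine ⟨clear_orth hN ⟨⟨omin_le hu.1.1, hu.1.2⟩, hu.2⟩ hu'U hu'L heq, Units.ext (Matrix.ext fun i j => ?_)⟩
  have hτ : ∀ x : Fin N, midLab N (k + 1) (flipPair c x) = midLab N (k + 1) x := by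
    intro x
    rw [flipPair, swap_apply_def]
    have hr := Fin.val_rev c
    split_ifs with h1 h2
    · subst h1; unfold midLab; rw [if_pos (by omega), if_pos (by omega)]
    · subst h2; unfold midLab; rw [if_pos (by omega), if_pos (by omega)]
    · rfl
  rw [twist_apply]
  by_cases hij : midLab N (k + 1) i = midLab N (k + 1) j
  · rw [heq _ _ hij, heq _ _ (by rw [hτ, hτ, hij])]
    have h := congrArg (fun g : GL (Fin N) F => (g : 𝕄) i j) hu.1.1.2
    simp only [twist_apply] at h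
    exact h
  · rw [hu'L _ _ hij, hu'L _ _ (by rw [hτ, hτ]; exact hij), map_zero]

end Orth

/-! ### Transfer from frames -/

section Frames

variable {F : Type v} [Field F] [Finite F] {N : ℕ} [CharP F 2]
variable {G N₀ : Subgroup (GL (Fin N) F)} {S : Set (GL (Fin N) F)}

theorem frame_sq (fr : Frame G N₀ S) (h : Sq (G ⊓ uni N F)) :
    SqSylow fr.grp ∧ ∃ Q : Sylow 2 fr.grp, (Q : Subgroup fr.grp) = (G ⊓ uni N F).subgroupOf fr.grp := by
  haveI : Fact (Nat.Prime 2) := ⟨Nat.prime_two⟩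
  obtain ⟨Q, hQ⟩ := LieSplit.exists_sylow (fr.split (p := 2))
  exact ⟨sqSylow_of_one Q (hQ ▸ sq_subgroupOf fr.uni_le h), Q, hQ⟩

theorem frame_normal_sq (fr : Frame G N₀ S) (h : Sq (G ⊓ uni N F)) (Y : Subgroup fr.grp)
    (hY : (G ⊓ uni N F).subgroupOf fr.grp ≤ Y) {Z : Type u} [Group Z] (φ : Y ≃* Z) :
    SqSylow (Z ⧸ Subgroup.center Z) := by
  haveI : Finite Z := Finite.of_equiv Y φ.toEquiv
  obtain ⟨h1, Q, hQ⟩ := frame_sq fr h
  exact sqSylow_surj (QuotientGroup.mk' _) (QuotientGroup.mk'_surjective _)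
    (sqSylow_equiv φ (sqSylow_normal Y (hQ ▸ hY) h1))

theorem commutator_sq (fr : Frame G N₀ S) (h : Sq (G ⊓ uni N F)) {X : Type u} [Group X] (E : X ≃* G)
    (hgrp : (fr.grp.subgroupOf G).index = 2) (hcase : (commutator X).index = 2) :
    SqSylow (commutator X ⧸ Subgroup.center (commutator X)) := by
  haveI : Finite X := Finite.of_equiv G E.symm.toEquiv
  have hmap : (commutator X).map E.toMonoidHom = commutator G := by
    rw [commutator_def, commutator_def, Subgroup.map_commutator, Subgroup.map_top_of_surjective _ E.surjective]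
  have hidx : (commutator G).index = (commutator X).index := by
    rw [← hmap]
    exact Subgroup.index_map_equiv (commutator X) E
  have hC : commutator G ≤ fr.grp.subgroupOf G := commutator_le_of_index_two hgrp
  have hge : fr.grp.subgroupOf G ≤ commutator G := by
    have h3 := Subgroup.relIndex_mul_index hC
    rw [hidx, hcase, hgrp] at h3
    exact Subgroup.relIndex_eq_one.1 (by omega)
  have heq : (commutator G).map G.subtype = fr.grp := by
    rw [le_antisymm hC hge, Subgroup.subgroupOf_map_subtype, inf_eq_left.2 fr.grp_le]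
  obtain ⟨φ, -⟩ : ∃ φ : fr.grp ≃* commutator X, φ = φ := ⟨(MulEquiv.subgroupCongr heq.symm).trans
    ((Subgroup.equivMapOfInjective (commutator G) G.subtype G.subtype_injective).symm.trans
      ((MulEquiv.subgroupCongr hmap.symm).trans
        (Subgroup.equivMapOfInjective (commutator X) E.toMonoidHom E.injective).symm)), rfl⟩
  exact frame_normal_sq fr h ⊤ le_top (Subgroup.topEquiv.trans φ)

end Frames

/-! ### Classical families -/

section Classical

variable {F : Type v} [Field F] [Fintype F] [CharP F 2]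

omit [Fintype F] in
theorem two_eq_zero : (2 : F) = 0 := CharTwo.two_eq_zero

theorem psl_sq {N : ℕ} (hN : 1 ≤ N) : SqSylow (Matrix.ProjectiveSpecialLinearGroup (Fin N) F) := by
  obtain ⟨n, rfl⟩ : ∃ n, N = n + 1 := ⟨N - 1, by omega⟩
  obtain ⟨S, fr⟩ := LieSplit.gl_frame (F := F) (n := n)
  have hgrp := fr.grp_eq_of_full nform_top
  let det : fr.grp →* Fˣ := Matrix.GeneralLinearGroup.det.comp fr.grp.subtype
  have hU : ((⊤ : Subgroup (GL (Fin (n + 1)) F)) ⊓ uni (n + 1) F).subgroupOf fr.grp ≤ det.ker := fun u hu => by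
    rw [MonoidHom.mem_ker]
    refine Units.ext ?_
    show ((u : GL (Fin (n + 1)) F) : Matrix (Fin (n + 1)) (Fin (n + 1)) F).det = 1
    refine (Matrix.det_of_upperTriangular fun i j (h : j < i) => uni_below (Subgroup.mem_inf.1 hu).2 h).trans ?_
    exact Finset.prod_eq_one fun i _ => uni_diag (Subgroup.mem_inf.1 hu).2 i
  let f : Matrix.SpecialLinearGroup (Fin (n + 1)) F →* det.ker :=
    { toFun := fun A => ⟨⟨Matrix.SpecialLinearGroup.toGL A, hgrp.symm ▸ Subgroup.mem_top _⟩, by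
        rw [MonoidHom.mem_ker]
        exact Units.ext A.2⟩
      map_one' := Subtype.ext (Subtype.ext (map_one _))
      map_mul' := fun A B => Subtype.ext (Subtype.ext (map_mul _ A B)) }
  have hbij : Function.Bijective f := by
    refine ⟨fun A B h => Matrix.SpecialLinearGroup.toGL_injective
      (congrArg (fun z : det.ker => ((z : fr.grp) : GL (Fin (n + 1)) F)) h), fun x => ?_⟩
    obtain ⟨⟨B, hB⟩, hx⟩ := x
    exact ⟨⟨(B : Matrix (Fin (n + 1)) (Fin (n + 1)) F), congrArg Units.val (MonoidHom.mem_ker.1 hx)⟩,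
      Subtype.ext (Subtype.ext (Units.ext rfl))⟩
  exact frame_normal_sq fr (sq_top two_eq_zero) det.ker hU (MulEquiv.ofBijective f hbij).symm

theorem psp_sq (m : ℕ) : SqSylow (Cfsg.PSp m F) := by
  obtain ⟨S, fr⟩ := sp_frame (F := F) (m := m)
  have hinj : Function.Injective (spHom m F) := fun a b h => Subtype.ext
    ((Matrix.reindexAlgEquiv F F (spIdx m)).injective (by rw [← spHom_val, ← spHom_val, h]))
  haveI : Finite (Matrix.symplecticGroup (Fin m) F) := Finite.of_injective _ hinj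
  have hgrp := fr.grp_eq_of_full (spForm m F).nform
  have hsq : Sq ((spForm m F).grp ⊓ uni (m + m) F) := by
    refine sq_symm_form two_eq_zero (fun x => ?_) (fun _ => rfl) (fun x e => ?_) le_rfl
      fun k u hu u' hu'U hu'L heq => clear_mem_grp hu hu'L hu'U heq
    · show (if x.val < m then (-1 : F) else 1) = 1
      split_ifs
      · linear_combination -(two_eq_zero : (2 : F) = 0)
      · rfl
    · have := congrArg Fin.val e; rw [Fin.val_rev] at this; omega
  exact frame_normal_sq fr hsq ⊤ le_top (Subgroup.topEquiv.trans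
    (((MonoidHom.ofInjective hinj).trans (MulEquiv.subgroupCongr (spHom_range.trans hgrp.symm))).symm))

theorem psu_sq (n q : ℕ) (hn : 2 ≤ n) (hF : Fintype.card F = q ^ 2) : SqSylow (Cfsg.PSU n F q) := by
  obtain ⟨σ, hσd⟩ : ∃ σ, σ = Classical.conjHom hF := ⟨_, rfl⟩
  have hσ : ∀ x, σ (σ x) = x := hσd ▸ Classical.conjHom_conjHom hF
  obtain ⟨g, hg⟩ := Fusion.PSUWitt.exists_witt_basis hF (n := n) (by omega)
  rw [← hσd] at hg
  have hne : σ ≠ RingHom.id F := hσd ▸ Classical.conjHom_ne_id hF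
  obtain ⟨S, fr⟩ := herm_frame (n := n) σ hσ hne
  have hsq : Sq ((hermAForm σ hσ n).grp ⊓ uni n F) := by
    refine sq_herm_form two_eq_zero (fun _ => rfl) ?_
    by_contra! h
    exact hne (RingHom.ext h)
  obtain ⟨M, hM⟩ : ∃ M, M = hermAForm σ hσ n := ⟨_, rfl⟩
  rw [← hM] at fr hsq
  have hgrp := fr.grp_eq_of_full M.nform
  have hone : (1 : Matrix (Fin n) (Fin n) F) = ((g⁻¹ : GL (Fin n) F) : Matrix (Fin n) (Fin n) F)ᵀ * M.mat *
      ((g⁻¹ : GL (Fin n) F) : Matrix (Fin n) (Fin n) F).map σ := by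
    rw [hM, hermAForm_mat, ← hg, ← mul_assoc, ← Matrix.transpose_mul, Units.mul_inv, Matrix.transpose_one, one_mul,
      ← Matrix.map_mul, Units.mul_inv, Matrix.map_one _ (map_zero σ) (map_one σ)]
  have key : ∀ A : GL (Fin n) F, (A : Matrix (Fin n) (Fin n) F)ᵀ * (A : Matrix (Fin n) (Fin n) F).map σ = 1 ↔ g⁻¹ * A * g ∈ M.grp := by
    intro A
    obtain ⟨B, hB⟩ : ∃ B, B = g⁻¹ * A * g := ⟨_, rfl⟩
    have hA : A = g * B * g⁻¹ := by rw [hB]; group
    rw [← hB, M.mem_grp, show M.phi.mapMatrix (B : Matrix (Fin n) (Fin n) F) = (B : Matrix (Fin n) (Fin n) F).map σ by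
      rw [hM]; rfl, hA]
    simp only [Units.val_mul, Matrix.transpose_mul, Matrix.map_mul]
    obtain ⟨C, hC⟩ : ∃ C : Matrix (Fin n) (Fin n) F, C = (B : Matrix (Fin n) (Fin n) F)ᵀ * M.mat * (B : Matrix (Fin n) (Fin n) F).map σ := ⟨_, rfl⟩
    rw [← hC]
    have e : ((g⁻¹ : GL (Fin n) F) : Matrix (Fin n) (Fin n) F)ᵀ * ((B : Matrix (Fin n) (Fin n) F)ᵀ * (g : Matrix (Fin n) (Fin n) F)ᵀ) *
        ((g : Matrix (Fin n) (Fin n) F).map σ * (B : Matrix (Fin n) (Fin n) F).map σ * ((g⁻¹ : GL (Fin n) F) : Matrix (Fin n) (Fin n) F).map σ) =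
        ((g⁻¹ : GL (Fin n) F) : Matrix (Fin n) (Fin n) F)ᵀ * C * ((g⁻¹ : GL (Fin n) F) : Matrix (Fin n) (Fin n) F).map σ := by
      rw [hC, hM, hermAForm_mat, ← hg]; simp only [mul_assoc]
    rw [e]
    conv_lhs => rw [hone]
    constructor
    · intro h
      have h2 := congrArg (fun X => (g : Matrix (Fin n) (Fin n) F)ᵀ * X * (g : Matrix (Fin n) (Fin n) F).map σ) h
      simp only [← mul_assoc, ← Matrix.transpose_mul, Units.inv_mul, Matrix.transpose_one, one_mul] at h2
      simpa [mul_assoc, ← Matrix.map_mul, Matrix.map_one _ (map_zero σ) (map_one σ)] using h2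
    · intro h; rw [h]
  let det : fr.grp →* Fˣ := Matrix.GeneralLinearGroup.det.comp fr.grp.subtype
  have hU : (M.grp ⊓ uni n F).subgroupOf fr.grp ≤ det.ker := fun u hu => by
    rw [MonoidHom.mem_ker]
    refine Units.ext ?_
    show ((u : GL (Fin n) F) : Matrix (Fin n) (Fin n) F).det = 1
    refine (Matrix.det_of_upperTriangular fun i j (h : j < i) => uni_below (hu : (u : GL (Fin n) F) ∈ M.grp ⊓ uni n F).2 h).trans ?_
    exact Finset.prod_eq_one fun i _ => uni_diag (hu : (u : GL (Fin n) F) ∈ M.grp ⊓ uni n F).2 i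
  have hmemSU : ∀ A : Matrix.SpecialLinearGroup (Fin n) F, A ∈ Cfsg.SU n F q ↔
      g⁻¹ * Matrix.SpecialLinearGroup.toGL A * g ∈ fr.grp := fun A => by
    rw [Classical.mem_SU_iff hF, ← hσd, hgrp, ← key]; rfl
  let f : Cfsg.SU n F q →* det.ker :=
    { toFun := fun A => ⟨⟨g⁻¹ * Matrix.SpecialLinearGroup.toGL A.1 * g, (hmemSU A.1).1 A.2⟩, by
        rw [MonoidHom.mem_ker]
        show Matrix.GeneralLinearGroup.det (g⁻¹ * Matrix.SpecialLinearGroup.toGL A.1 * g) = 1
        rw [map_mul, map_mul, map_inv, mul_comm, ← mul_assoc, mul_inv_cancel, one_mul]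
        exact Units.ext A.1.2⟩
      map_one' := Subtype.ext (Subtype.ext (by simp))
      map_mul' := fun A B => Subtype.ext (Subtype.ext (by
        show g⁻¹ * Matrix.SpecialLinearGroup.toGL (A.1 * B.1) * g = (g⁻¹ * _ * g) * (g⁻¹ * _ * g)
        rw [map_mul]; group)) }
  have hbij : Function.Bijective f := by
    refine ⟨fun A B h => ?_, fun x => ?_⟩
    · have h2 : g⁻¹ * Matrix.SpecialLinearGroup.toGL A.1 * g = g⁻¹ * Matrix.SpecialLinearGroup.toGL B.1 * g :=
        congrArg (fun z : det.ker => ((z : fr.grp) : GL (Fin n) F)) h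
      exact Subtype.ext (Matrix.SpecialLinearGroup.toGL_injective (mul_left_cancel (mul_right_cancel h2)))
    · obtain ⟨⟨B, hB⟩, hx⟩ := x
      have hd : Matrix.GeneralLinearGroup.det B = 1 := MonoidHom.mem_ker.1 hx
      obtain ⟨A, hA⟩ : ∃ A : Matrix.SpecialLinearGroup (Fin n) F, Matrix.SpecialLinearGroup.toGL A = g * B * g⁻¹ := by
        refine ⟨⟨((g * B * g⁻¹ : GL (Fin n) F) : Matrix (Fin n) (Fin n) F), ?_⟩, Units.ext rfl⟩
        show (Matrix.GeneralLinearGroup.det (g * B * g⁻¹) : F) = 1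
        rw [map_mul, map_mul, map_inv, hd, mul_one, mul_inv_cancel, Units.val_one]
      have e : g⁻¹ * Matrix.SpecialLinearGroup.toGL A * g = B := by rw [hA]; group
      exact ⟨⟨A, (hmemSU A).2 (e.symm ▸ hB)⟩, Subtype.ext (Subtype.ext e)⟩
  exact frame_normal_sq fr hsq det.ker hU (MulEquiv.ofBijective f hbij).symm

theorem pomega_plus_sq (m : ℕ) (hm : 3 ≤ m) : SqSylow (Cfsg.POmega F (Cfsg.quadFormPlus m F)) := by
  classical
  obtain ⟨e, el, er⟩ := exists_plusIdx m
  have hQ : ∀ v, Cfsg.quadFormPlus m F v = Qf (2 * m) F (v ∘ e.symm) := fun v => by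
    have rl : ∀ i, Fin.rev (e (.inl i)) = e (.inr i) := fun i => Fin.ext (by
      have := el i; have := er i; rw [Fin.val_rev]; omega)
    have cl : ∀ i, e (.inl i) ≤ e (.inr i) := fun i => Fin.le_def.2 (by
      have := el i; have := er i; omega)
    have cr : ∀ i, ¬ e (.inr i) ≤ e (.inl i) := fun i h => by
      have := Fin.le_def.1 h; have := el i; have := er i; omega
    have rr : ∀ i, Fin.rev (e (.inr i)) = e (.inl i) := fun i => by rw [← rl, Fin.rev_rev]
    rw [Qf_apply, ← e.sum_comp]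
    simp only [Fintype.sum_sum_type, rl, rr, if_pos (cl _), if_neg (cr _), Function.comp_apply, Equiv.symm_apply_apply,
      Finset.sum_const_zero, add_zero]
    rfl
  obtain ⟨E⟩ := exists_isoEquiv e (Cfsg.quadFormPlus m F) hQ
  obtain ⟨S, fr, hidx⟩ := plus_frame (F := F) (N := 2 * m) (ℓ := m) rfl (c := ⟨m - 1, by omega⟩) (by simp only; omega)
  refine commutator_sq fr (sq_orth two_eq_zero rfl) E hidx ?_
  have hrk : Module.finrank F ((Fin m → F) × (Fin m → F) × (Fin 0 → F)) = 2 * m := by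
    simp [Module.finrank_prod]; omega
  rw [Geometry.index_commutator_congr (Classical.isometryMulEquiv (Classical.plusEquiv m F) _ _
    (Classical.quadFormPlus_eq_hyper m)).symm]
  exact Geometry.index_commutator_even _ (Classical.hyperForm_nondegenerate m _ (Classical.zero_nondegenerate (F := F)))
    (by omega) (Or.inr (by omega))

theorem pomega_minus_sq (m : ℕ) (a b : F) (hm : 2 ≤ m)
    (hab : ∀ z₁ z₂ : F, z₁ ^ 2 + a * z₁ * z₂ + b * z₂ ^ 2 = 0 → z₁ = 0 ∧ z₂ = 0) :
    SqSylow (Cfsg.POmega F (Cfsg.quadFormMinus m F a b)) := by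
  classical
  haveI : Fact (Nat.Prime 2) := ⟨Nat.prime_two⟩
  obtain ⟨k, hk, hcard⟩ := FiniteField.card F 2
  haveI : Fintype (GaloisField 2 (2 * k)) := Fintype.ofFinite _
  have hK : Fintype.card (GaloisField 2 (2 * k)) = (Fintype.card F) ^ 2 := by
    rw [← Nat.card_eq_fintype_card, GaloisField.card 2 (2 * k) (Nat.mul_ne_zero two_ne_zero k.pos.ne'), hcard, ← pow_mul, mul_comm]
  obtain ⟨c, hc, ⟨E⟩⟩ := exists_minusEquiv rfl hK m a b hab
  obtain ⟨N₀, S, fr, hidx⟩ := minus_frame (F := GaloisField 2 (2 * k)) (N := 2 * (m + 1)) (ℓ := m + 1) rfl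
    (Classical.conjHom hK) hc
  refine commutator_sq fr (sq_omin CharTwo.two_eq_zero rfl _ hc) E hidx ?_
  have hrk : Module.finrank F ((Fin m → F) × (Fin m → F) × (F × F)) = 2 * m + 2 := by
    simp [Module.finrank_prod]; omega
  rw [Geometry.index_commutator_congr (Classical.isometryMulEquiv (Classical.minusEquiv m F) _ _
    (Classical.quadFormMinus_eq_hyper m a b)).symm]
  exact Geometry.index_commutator_even _ (Classical.hyperForm_nondegenerate m _ (Classical.binaryForm_nondegenerate a b hab))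
    (by omega) (Or.inr (by omega))

end Classical

/-! ### Exceptional families -/

open Cfsg.Lie in
theorem chev_sylow_sq {D : ChevalleyDatum} {F : Type*} [Field F] [Fintype F] [CharP F 2]
    (hD : D ∈ [chevG2, chevB2, chevD4, chevF4, chevE6, chevE7, chevE8]) : SqSylow ↥(D.group F) := by
  haveI : Fact (Nat.Prime 2) := ⟨Nat.prime_two⟩
  obtain ⟨T, G⟩ := Chev.exists_good hD
  obtain ⟨Q, hQ⟩ := G.exists_sylow (F := F) 2
  exact sqSylow_of_one Q (hQ ▸ sq_subgroupOf (fun _ h => G.borel_le_group (Subgroup.mem_sup_left h))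
    (chev_sq G CharTwo.two_eq_zero))

open Cfsg.Lie Chev.Tw in
theorem gens_sylow_sq {D : ChevalleyDatum} {T : Chev.Tables} {X : TwTab} {K : Type*} [Field K] [Fintype K]
    [CharP K 2] {Y : Sys D T X K} (Z : Gens Y) (hd : chkDist D T X = true)
    (hk : ∀ k < X.nb, ∀ c ∈ flipSetFx Y (Z.n k),
      c * c ∈ Subgroup.closure {z | ∃ a ∈ flipSetFx Y (Z.n k), ∃ b ∈ flipSetFx Y (Z.n k), z = ⁅a, b⁆}) :
    SqSylow Z.G1 := by
  haveI : Fact (Nat.Prime 2) := ⟨Nat.prime_two⟩
  obtain ⟨Q, hQ⟩ := LieSplit.exists_sylow (LieSplit.gens_split Z hd 2)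
  refine sqSylow_of_one Q (hQ ▸ ?_)
  rw [← Subgroup.inf_subgroupOf_right]
  exact sq_subgroupOf inf_le_right (tw_sq Z hk)

open Chev.Tw in
theorem twistedD4_sq {K : Type*} [Field K] [Fintype K] [CharP K 2] {q : ℕ} (hq : IsPrimePow q)
    (hK : Fintype.card K = q ^ 3) : SqSylow ↥(Cfsg.Lie.twistedD4 K q) := by
  obtain ⟨A⟩ := D4.exists_par hq hK
  refine gens_sylow_sq (D4.gens A) twD4_dist fun k hk c hc => ?_
  rw [ab_sq_one CharTwo.two_eq_zero (D4.ab A hk) hc]
  exact one_mem _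

open Chev.Tw in
theorem twistedE6_sq {K : Type*} [Field K] [Fintype K] [CharP K 2] {q : ℕ} (hq : IsPrimePow q)
    (hK : Fintype.card K = q ^ 2) : SqSylow ↥(Cfsg.Lie.twistedE6 K q) := by
  obtain ⟨A⟩ := E6.exists_par hq hK
  refine gens_sylow_sq (E6.gens A) twE6_dist fun k hk c hc => ?_
  rw [ab_sq_one CharTwo.two_eq_zero (E6.ab A hk) hc]
  exact one_mem _

open Chev.Tw in
theorem twistedF4_sq {K : Type*} [Field K] [Fintype K] [CharP K 2] {m : ℕ} (hm : 1 ≤ m)
    (hK : Fintype.card K = 2 ^ (2 * m + 1)) : SqSylow ↥(Cfsg.Lie.twistedF4 K (2 ^ m)) := by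
  obtain ⟨A⟩ := F4.exists_par hK
  refine gens_sylow_sq (F4.gens A) twF4_dist fun k hk c hc => ?_
  match k, hk with
  | 0, _ => rw [ab_sq_one CharTwo.two_eq_zero (F4.ab0 A) hc]; exact one_mem _
  | 1, _ => exact twF4_sq hm A c hc
  | n + 2, h => exact absurd h (by simp [twF4, TwTab.nb])

theorem sqSylow_of_lie {G : Type u} [Group G] [Finite G] (h : Cfsg.IsLieTypeChar 2 G) : SqSylow G := by
  rcases h with h | h | h | h | h | h | h | h | ⟨-, h⟩ | ⟨-, h⟩ | ⟨hp, -⟩
  · obtain ⟨F, _, _, _, n, hn, -, ⟨e⟩⟩ := h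
    haveI : Finite (Matrix.ProjectiveSpecialLinearGroup (Fin n) F) := Finite.of_equiv G e.toEquiv
    exact sqSylow_equiv e.symm (psl_sq (by omega))
  · obtain ⟨F, _, _, _, m, -, -, ⟨e⟩⟩ := h
    haveI : Finite (Cfsg.PSp m F) := Finite.of_equiv G e.toEquiv
    exact sqSylow_equiv e.symm (psp_sq m)
  · obtain ⟨F, _, _, _, n, q, hF, hn, -, ⟨e⟩⟩ := h
    haveI : Finite (Cfsg.PSU n F q) := Finite.of_equiv G e.toEquiv
    exact sqSylow_equiv e.symm (psu_sq n q (by omega) hF)
  · obtain ⟨F, _, _, _, m, hm, hodd, ⟨e⟩⟩ := h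
    exact absurd ((Classical.two_eq_zero_iff_even rfl).1 (CharTwo.two_eq_zero : (2 : F) = 0))
      (Nat.not_even_iff_odd.2 hodd)
  · obtain ⟨F, _, _, _, m, hm, ⟨e⟩⟩ := h
    haveI := Finite.of_equiv G e.toEquiv
    exact sqSylow_equiv e.symm (pomega_plus_sq m (by omega))
  · obtain ⟨F, _, _, _, m, a, b, hm, hab, ⟨e⟩⟩ := h
    haveI := Finite.of_equiv G e.toEquiv
    exact sqSylow_equiv e.symm (pomega_minus_sq (m - 1) a b (by omega) hab)
  · obtain ⟨F, _, _, _, h⟩ := h
    rcases h with ⟨-, ⟨e⟩⟩ | ⟨⟨e⟩⟩ | ⟨⟨e⟩⟩ | ⟨⟨e⟩⟩ | ⟨⟨e⟩⟩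
    all_goals
      haveI := Finite.of_equiv G e.toEquiv
      exact sqSylow_equiv e.symm (chev_sylow_sq (by simp))
  · obtain ⟨K, _, _, _, q, hq, ⟨hK, ⟨e⟩⟩ | ⟨hK, ⟨e⟩⟩⟩ := h
    · haveI := Finite.of_equiv G e.toEquiv
      exact sqSylow_equiv e.symm (twistedE6_sq hq hK)
    · haveI := Finite.of_equiv G e.toEquiv
      exact sqSylow_equiv e.symm (twistedD4_sq hq hK)
  · obtain ⟨F, _, _, m, hm, hF, ⟨e⟩⟩ := h
    haveI := Finite.of_equiv G e.toEquiv
    exact sqSylow_equiv e.symm (suz_sq hm hF)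
  · obtain ⟨K, _, _, m, hm, hK, ⟨e⟩⟩ := h
    haveI := Finite.of_equiv G e.toEquiv
    haveI : CharP K 2 := charP_of_card_eq_prime_pow (f := 2 * m + 1) hK
    exact sqSylow_equiv e.symm (twistedF4_sq hm hK)
  · exact absurd hp (by norm_num)

end Cfsg.Agent.Lib.SylowTwoSq
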