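import Cfsg.Agent.Lib.SylowTwoSq.Classical

/-!
The radicals for an anti-diagonal form in characteristic two.
-/

set_option autoImplicit false

namespace Cfsg.Agent.Lib.SylowTwoSq

open Cfsg.Agent.Lib.ClassicalBN
open scoped commutatorElement Matrix

universe v

variable {F : Type v} [Field F] [Finite F] {N : ℕ} {M : AForm F N}

local notation "𝕄" => Matrix (Fin N) (Fin N) F

/-- Clearing preserves the form. -/
theorem clear_mem_grp {k : ℕ} {u u' : GL (Fin N) F} (hu : u ∈ blkU M.grp k)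
    (hu'L : InL (midLab N (k + 1)) u') (hu'U : u' ∈ uni N F)
    (heq : ∀ i j, midLab N (k + 1) i = midLab N (k + 1) j → (u' : 𝕄) i j = (u : 𝕄) i j) : u' ∈ M.grp := by
  classical
  obtain ⟨lab, hlab⟩ : ∃ lab, lab = midLab N (k + 1) := ⟨_, rfl⟩
  rw [← hlab] at hu'L heq
  have hmid : ∀ x : Fin N, lab x = 0 ↔ k + 1 ≤ x.val ∧ x.val + (k + 1) < N := fun x => by
    rw [hlab]; unfold midLab; split_ifs with h
    · exact iff_of_true rfl h
    · exact ⟨fun h' => absurd h' (by simp), fun h' => absurd h' h⟩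
  have hrev : ∀ x : Fin N, lab x = 0 → lab (Fin.rev x) = 0 := fun x hx => by
    rw [hmid] at hx ⊢; rw [Fin.val_rev]; omega
  have hout : ∀ a b, a ≠ b → lab a ≠ 0 → lab a ≠ lab b := fun a b hab ha h => hab (Fin.ext (by
    rw [hlab] at ha h; unfold midLab at ha h; split_ifs at ha h <;> omega))
  have huG := M.mem_grp_iff.1 hu.1.1
  refine M.mem_grp_iff.2 fun i l => ?_
  by_cases hi : lab i = 0
  swap
  · rw [Finset.sum_eq_single i ?_ (by simp), uni_diag hu'U, one_mul]
    · by_cases hl : l = Fin.rev i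
      · rw [if_pos hl, hl, uni_diag hu'U, map_one, mul_one]
      · rw [if_neg hl, hu'L _ _ (hout _ _ (Ne.symm hl) fun h => hi (by simpa using hrev _ h)), map_zero, mul_zero]
    · intro x _ hx
      rw [hu'L x i (fun h => hout i x (Ne.symm hx) hi h.symm), zero_mul, zero_mul]
  by_cases hl : lab l = 0
  swap
  · rw [Finset.sum_eq_single (Fin.rev l) ?_ (by simp), Fin.rev_rev, uni_diag hu'U, map_one, mul_one]
    · have hne : Fin.rev l ≠ i := fun h => hl (by rw [← Fin.rev_rev l, h]; exact hrev _ hi)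
      rw [hu'L _ _ (hout _ _ hne fun h => hl (by simpa using hrev _ h)), zero_mul,
        if_neg fun h => hl (by rw [h]; exact hrev _ hi)]
    · intro x _ hx
      have hne : Fin.rev x ≠ l := fun h => hx (by rw [← h, Fin.rev_rev])
      rw [hu'L _ _ (fun h => hout l (Fin.rev x) (Ne.symm hne) hl h.symm), map_zero, mul_zero]
  rw [← huG i l]
  refine Finset.sum_congr rfl fun x _ => ?_
  by_cases hx : lab x = 0
  · rw [heq x i (by rw [hx, hi]), heq (Fin.rev x) l (by rw [hrev x hx, hl])]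
  rw [hu'L x i (by rw [hi]; exact hx), zero_mul, zero_mul]
  by_contra hne
  have h1 := left_ne_zero_of_mul (left_ne_zero_of_mul (Ne.symm hne))
  have h2 : (u : 𝕄) (Fin.rev x) l ≠ 0 := fun h => right_ne_zero_of_mul (Ne.symm hne) (by rw [h, map_zero])
  have hxi : x ≠ i := fun e => hx (e ▸ hi)
  have hxl : Fin.rev x ≠ l := fun e => hx (by rw [← Fin.rev_rev x, e]; exact hrev _ hl)
  have key : ∀ a b : Fin N, a ≠ b → (u : 𝕄) a b ≠ 0 → a.val < b.val ∧ k ≤ a.val ∧ b.val + k < N := by
    intro a b hab h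
    have hlt : a < b := by
      rcases lt_or_ge a b with h' | h'
      · exact h'
      · exact absurd ((hu.1.2 a b h').trans (Matrix.one_apply_ne hab)) h
    have hl' : midLab N k a = midLab N k b := by by_contra h'; exact h (hu.2 a b h')
    have := Fin.lt_def.1 hlt
    unfold midLab at hl'
    split_ifs at hl' <;> omega
  obtain ⟨p1, p2, -⟩ := key x i hxi h1
  obtain ⟨q1, q2, -⟩ := key (Fin.rev x) l hxl h2
  have e1 := (hmid i).1 hi
  have e2 := (hmid l).1 hl
  rw [hmid] at hx
  rw [Fin.val_rev] at q1 q2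
  omega

variable (h2 : (2 : F) = 0) (heps : ∀ x, M.eps x = 1)
include h2 heps

theorem rad_pair {k : ℕ} {e f : Fin N} (he : e.val = k) (hf : f.val + k + 1 = N) {r : GL (Fin N) F}
    (hr : r ∈ M.grp ⊓ uni N F) (hrad : IsRad k r) (x : Fin N) :
    ((r : 𝕄) - 1) e x * ((r : 𝕄) - 1) x f = M.phi (((r : 𝕄) - 1) (Fin.rev x) f) * ((r : 𝕄) - 1) x f := by
  classical
  have hoff : ∀ a b, a ≠ b → ((r : 𝕄) - 1) a b = (r : 𝕄) a b := fun a b h => by
    rw [Matrix.sub_apply, Matrix.one_apply_ne h, sub_zero]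
  have hdiag : ∀ a, ((r : 𝕄) - 1) a a = 0 := fun a => by
    rw [Matrix.sub_apply, uni_diag hr.2, Matrix.one_apply_eq, sub_self]
  by_cases hxf : ((r : 𝕄) - 1) x f = 0
  · rw [hxf, mul_zero, mul_zero]
  have hne : x ≠ f := fun h => hxf (h ▸ hdiag x)
  rw [hoff x f hne] at hxf
  obtain ⟨p1, p2, -, -⟩ := hrad x f hne hxf
  have p2' := Fin.lt_def.1 p2
  by_cases hxe : x = e
  · subst hxe
    have hrev : Fin.rev x = f := Fin.ext (by rw [Fin.val_rev]; omega)
    rw [hdiag, zero_mul, hrev, hdiag, map_zero, zero_mul]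
  have hxk : k < x.val := by
    have : x.val ≠ k := fun h => hxe (Fin.ext (h.trans he.symm))
    omega
  have hrx : Fin.rev x ≠ f := fun h => by
    have := congrArg Fin.val h
    rw [Fin.val_rev] at this
    omega
  rw [hoff e x (Ne.symm hxe), hoff _ f hrx]
  congr 1
  have h := M.mem_grp_iff.1 hr.1 x f
  rw [if_neg (fun h' => hrx h'.symm)] at h
  have hfe : Fin.rev e = f := Fin.ext (by rw [Fin.val_rev]; omega)
  rw [Finset.sum_eq_add e x (Ne.symm hxe)] at h
  · rw [hfe, uni_diag hr.2, map_one, mul_one, heps, mul_one, uni_diag hr.2, one_mul, heps, one_mul] at h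
    linear_combination h - M.phi ((r : 𝕄) (Fin.rev x) f) * h2
  · intro y _ hy
    by_cases h0 : (r : 𝕄) y x = 0
    · rw [h0, zero_mul, zero_mul]
    · obtain ⟨-, -, -, h4⟩ := hrad y x hy.2 h0
      rcases h4 with h4 | h4
      · exact absurd (Fin.ext (h4.trans he.symm)) hy.1
      · omega
  · simp
  · simp

/-- Symmetric forms: radical elements are involutions. -/
theorem rad_sq_one (hphi : ∀ a, M.phi a = a) (hfix : ∀ x : Fin N, Fin.rev x ≠ x) {k : ℕ} {e f : Fin N}
    (he : e.val = k) (hf : f.val + k + 1 = N) {r : GL (Fin N) F}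
    (hr : r ∈ M.grp ⊓ uni N F) (hrad : IsRad k r) : r * r = 1 := by
  refine Units.ext ?_
  rw [rad_sq h2 he hf hr.2 hrad, Finset.sum_congr rfl fun x _ => rad_pair h2 heps he hf hr hrad x]
  rw [Finset.sum_involution (fun x _ => Fin.rev x)]
  · simp
  · intro x _
    rw [hphi, hphi, Fin.rev_rev, mul_comm (((r : 𝕄) - 1) x f)]
    linear_combination ((r : 𝕄) - 1) (Fin.rev x) f * ((r : 𝕄) - 1) x f * h2
  · exact fun x _ _ => hfix x
  · exact fun x _ => Finset.mem_univ _
  · exact fun x _ => Fin.rev_rev x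

theorem sq_symm_form (hphi : ∀ a, M.phi a = a) (hfix : ∀ x : Fin N, Fin.rev x ≠ x)
    {G : Subgroup (GL (Fin N) F)} (hle : G ≤ M.grp) (hG : Clear G) : Sq (G ⊓ uni N F) := by
  refine sq_uni hG fun k hk r hr hrad => ?_
  rw [rad_sq_one h2 heps hphi hfix (e := ⟨k, by omega⟩) (f := ⟨N - k - 1, by omega⟩) rfl (by simp only; omega)
    ⟨hle hr.1, hr.2⟩ hrad]
  exact one_mem _

theorem exists_root {k : ℕ} {e j f : Fin N} (he : e.val = k) (hf : f.val + k + 1 = N) (hej : e < j) (hjf : j < f)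
    (x c : F) (hc : c + M.phi c + (if j = Fin.rev j then x * M.phi x else 0) = 0) :
    ∃ r ∈ M.grp ⊓ uni N F, IsRad k r ∧
      (r : 𝕄) - 1 = Matrix.single e j (M.phi x) + Matrix.single (Fin.rev j) f x + Matrix.single e f c := by
  classical
  have hfe : Fin.rev f = e := Fin.ext (by rw [Fin.val_rev]; omega)
  have hef : Fin.rev e = f := by rw [← hfe, Fin.rev_rev]
  have hjv := Fin.lt_def.1 hej
  have hjv' := Fin.lt_def.1 hjf
  have hrj : e < Fin.rev j ∧ Fin.rev j < f := by
    constructor <;> rw [Fin.lt_def, Fin.val_rev] <;> omega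
  obtain ⟨A, hA⟩ : ∃ A : 𝕄, A = Matrix.single e j (M.phi x) + Matrix.single (Fin.rev j) f x + Matrix.single e f c := ⟨_, rfl⟩
  have hAz : ∀ a b, A a b ≠ 0 → (a = e ∧ (b = j ∨ b = f)) ∨ (a = Fin.rev j ∧ b = f) := by
    intro a b h
    by_contra hcon
    apply h
    rw [hA, Matrix.add_apply, Matrix.add_apply, Matrix.single_apply, Matrix.single_apply, Matrix.single_apply,
      if_neg, if_neg, if_neg, add_zero, add_zero]
    · rintro ⟨rfl, rfl⟩; exact hcon (.inl ⟨rfl, .inr rfl⟩)
    · rintro ⟨rfl, rfl⟩; exact hcon (.inr ⟨rfl, rfl⟩)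
    · rintro ⟨rfl, rfl⟩; exact hcon (.inl ⟨rfl, .inl rfl⟩)
  have hupper : ∀ a b, b ≤ a → A a b = 0 := by
    intro a b hba
    by_contra h
    rcases hAz a b h with ⟨rfl, rfl | rfl⟩ | ⟨rfl, rfl⟩
    · exact hej.not_ge hba
    · exact (hej.trans hjf).not_ge hba
    · exact hrj.2.not_ge hba
  have hform : Aᵀ * M.mat + M.mat * M.phi.mapMatrix A + Aᵀ * M.mat * M.phi.mapMatrix A = 0 := by
    have hne : f ≠ e := (hej.trans hjf).ne'
    have n1 : f ≠ Fin.rev j := hrj.2.ne'
    have n2 : j ≠ e := hej.ne'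
    rw [hA]
    simp only [Matrix.transpose_add, Matrix.transpose_single, map_add, AForm.phi_single, add_mul, mul_add,
      AForm.single_mul_mat, AForm.mat_mul_single, heps, mul_one, one_mul, Fin.rev_rev, hef, hfe, M.invol,
      Matrix.single_mul_single_of_ne _ _ _ _ hne, Matrix.single_mul_single_of_ne _ _ _ _ n1,
      Matrix.single_mul_single_of_ne _ _ _ _ n2, add_zero, zero_add]
    rcases eq_or_ne j (Fin.rev j) with hj | hj
    · rw [if_pos hj] at hc
      rw [← hj]
      simp only [Matrix.single_mul_single_same]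
      calc _ = Matrix.single j f (M.phi x + M.phi x) + Matrix.single f j (x + x) +
            Matrix.single f f (c + M.phi c + x * M.phi x) := by simp only [Matrix.single_add]; abel
        _ = 0 := by
          rw [hc, show M.phi x + M.phi x = 0 by linear_combination M.phi x * h2,
            show x + x = 0 by linear_combination x * h2]; simp
    · rw [if_neg hj, add_zero] at hc
      simp only [Matrix.single_mul_single_of_ne _ _ _ _ hj, add_zero, zero_add]
      calc _ = Matrix.single j f (M.phi x + M.phi x) + Matrix.single f j (x + x) +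
            Matrix.single f f (c + M.phi c) := by simp only [Matrix.single_add]; abel
        _ = 0 := by
          rw [hc, show M.phi x + M.phi x = 0 by linear_combination M.phi x * h2,
            show x + x = 0 by linear_combination x * h2]; simp
  obtain ⟨r, hr, hval⟩ := M.exists_elem A hupper hform
  have hsub : (r : 𝕄) - 1 = A := by
    ext a b
    rcases eq_or_ne a b with rfl | hab
    · rw [Matrix.sub_apply, uni_diag hr.2, Matrix.one_apply_eq, sub_self, hupper a a le_rfl]
    · rw [Matrix.sub_apply, Matrix.one_apply_ne hab, sub_zero, hval a b hab]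
  refine ⟨r, hr, fun a b hab h => ?_, hsub.trans hA⟩
  rw [hval a b hab] at h
  have hjr := Fin.val_rev j
  rcases hAz a b h with ⟨rfl, rfl | rfl⟩ | ⟨rfl, rfl⟩
  · exact ⟨by omega, hej, by omega, .inl he⟩
  · exact ⟨by omega, hej.trans hjf, by omega, .inl he⟩
  · exact ⟨by omega, hrj.2, by omega, .inr hf⟩

/-- Hermitian forms: squares of radical elements are commutators. -/
theorem sq_herm_form (hne : ∃ a, M.phi a ≠ a) : Sq (M.grp ⊓ uni N F) := by
  classical
  obtain ⟨t₀, ht₀⟩ : ∃ a, a + M.phi a ≠ 0 := by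
    obtain ⟨a, ha⟩ := hne
    exact ⟨a, fun h => ha (by linear_combination h - a * h2)⟩
  have ttr : ∀ d, M.phi d = d → ∃ a, a + M.phi a = d := fun d hd => by
    refine ⟨d * t₀ / (t₀ + M.phi t₀), ?_⟩
    rw [map_div₀, map_mul, map_add, hd, M.invol, add_comm (M.phi t₀) t₀, ← add_div, ← mul_add,
      mul_div_assoc, div_self ht₀, mul_one]
  refine sq_uni (fun k u hu u' hu'U hu'L heq => clear_mem_grp hu hu'L hu'U heq) fun k hk r hr hrad => ?_
  obtain ⟨e, he⟩ : ∃ e : Fin N, e.val = k := ⟨⟨k, by omega⟩, rfl⟩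
  obtain ⟨f, hf⟩ : ∃ f : Fin N, f.val + k + 1 = N := ⟨⟨N - k - 1, by omega⟩, by simp only; omega⟩
  obtain ⟨d, hd⟩ : ∃ d, d = ∑ x, ((r : 𝕄) - 1) e x * ((r : 𝕄) - 1) x f := ⟨_, rfl⟩
  have hval := rad_sq h2 he hf hr.2 hrad
  rw [← hd] at hval
  have hdfix : M.phi d = d := by
    rw [hd, Finset.sum_congr rfl fun x _ => rad_pair h2 heps he hf hr hrad x, map_sum, ← Equiv.sum_comp Fin.revPerm]
    refine Finset.sum_congr rfl fun x _ => ?_
    rw [map_mul, M.invol, Fin.revPerm_apply, Fin.rev_rev, mul_comm]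
  by_cases hmid : k + 2 < N - k
  · obtain ⟨j, hj⟩ : ∃ j : Fin N, j.val = k + 1 := ⟨⟨k + 1, by omega⟩, rfl⟩
    have hej : e < j := Fin.lt_def.2 (by omega)
    have hjf : j < f := Fin.lt_def.2 (by omega)
    have hrj : e < Fin.rev j ∧ Fin.rev j < f := by
      constructor <;> rw [Fin.lt_def, Fin.val_rev] <;> omega
    obtain ⟨x, hx⟩ := ttr d hdfix
    have hc : ∀ (i : Fin N) (z : F), ∃ c, c + M.phi c + (if i = Fin.rev i then z * M.phi z else 0) = 0 := by
      intro i z
      split_ifs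
      · obtain ⟨c, hc⟩ := ttr (z * M.phi z) (by rw [map_mul, M.invol, mul_comm])
        exact ⟨c, by linear_combination hc + z * M.phi z * h2⟩
      · exact ⟨0, by simp⟩
    obtain ⟨c₁, hc₁⟩ := hc j x
    obtain ⟨c₂, hc₂⟩ := hc (Fin.rev j) 1
    obtain ⟨s, hs, hs', hsv⟩ := exists_root h2 heps he hf hej hjf x c₁ hc₁
    obtain ⟨t, ht, ht', htv⟩ := exists_root h2 heps he hf hrj.1 hrj.2 1 c₂ hc₂
    refine corner_mem h2 he hf hs ht hs' ht' ?_
    rw [hval, ← hx, hsv, htv, Fin.rev_rev]
    congr 2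
    rw [add_comm]
    congr 1
    · rw [Finset.sum_eq_single j]
      · simp [Matrix.add_apply, Matrix.single_apply, hej.ne, hjf.ne, hjf.ne']
      · intro y _ hy
        simp [Matrix.add_apply, Matrix.single_apply, hej.ne, hej.ne', (hej.trans hjf).ne, hrj.1.ne, hrj.1.ne',
          Ne.symm hy]
        intro h; subst h; simp [(hej.trans hjf).ne, (hej.trans hjf).ne', hrj.2.ne, hrj.2.ne', hjf.ne']
      · simp
    · rw [Finset.sum_eq_single (Fin.rev j)]
      · simp [Matrix.add_apply, Matrix.single_apply, hrj.1.ne, hrj.2.ne, hrj.2.ne']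
      · intro y _ hy
        simp [Matrix.add_apply, Matrix.single_apply, hej.ne, hej.ne', (hej.trans hjf).ne, hrj.1.ne, hrj.1.ne',
          Ne.symm hy]
        intro h; subst h; simp [(hej.trans hjf).ne, (hej.trans hjf).ne', hrj.2.ne, hrj.2.ne', hjf.ne, hjf.ne']
      · simp
  · have hd0 : d = 0 := by
      rw [hd]
      refine Finset.sum_eq_zero fun x _ => ?_
      by_contra hne'
      have key : ∀ a b, ((r : 𝕄) - 1) a b ≠ 0 → a < b := fun a b h => by
        by_contra hab
        rw [Matrix.sub_apply, hr.2 a b (not_lt.1 hab), sub_self] at h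
        exact h rfl
      have := Fin.lt_def.1 (key _ _ (left_ne_zero_of_mul hne'))
      have := Fin.lt_def.1 (key _ _ (right_ne_zero_of_mul hne'))
      omega
    have : r * r = 1 := Units.ext (by rw [hval, hd0, Matrix.single_zero, add_zero, Units.val_one])
    rw [this]; exact one_mem _

end Cfsg.Agent.Lib.SylowTwoSq
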